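import Groth.Agent.Brauer.K438.Basic
import Groth.Agent.CurvesA.Splitting

/-!
# Splitting: enlarging the field
-/

set_option autoImplicit false

open scoped TensorProduct

namespace K438.Basic

/-- Base change of a matrix algebra over the base ring. -/
noncomputable def baseMatrix (K L : Type*) [Field K] [Field L] [Algebra K L] (n : ℕ) :
    L ⊗[K] Matrix (Fin n) (Fin n) K ≃ₐ[L] Matrix (Fin n) (Fin n) L :=
  (Groth.Agent.CurvesA.Splitting.tensorMatrix K L K n).trans
    ((Algebra.TensorProduct.rid K L L).mapMatrix)

theorem splits_extend (k K L A : Type*) [Field k] [Field K] [Field L] [Algebra k K] [Algebra k L]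
    [Algebra K L] [IsScalarTower k K L] [Ring A] [Algebra k A] (h : Curves.Splits k A K) :
    Curves.Splits k A L := by
  obtain ⟨n, hn, ⟨e⟩⟩ := h
  exact ⟨n, hn, ⟨(cancel k K L L A).symm.trans <|
    (Algebra.TensorProduct.congr (AlgEquiv.refl : L ≃ₐ[L] L) e).trans (baseMatrix K L n)⟩⟩

/-- If `K` splits `A` and `K` embeds in `L` over `k` then `L` splits `A`. -/
theorem splits_map {k K L A : Type*} [Field k] [Field K] [Field L] [Algebra k K] [Algebra k L]
    [Ring A] [Algebra k A] (f : K →ₐ[k] L) (h : Curves.Splits k A K) :
    Curves.Splits k A L := by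
  letI : Algebra K L := f.toRingHom.toAlgebra
  haveI : IsScalarTower k K L := IsScalarTower.of_algebraMap_eq fun x => (f.commutes x).symm
  exact splits_extend k K L A h

end K438.Basic
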