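import Groth.Agent.Brauer.K438.ModDim
import Groth.Agent.Brauer.K441.TPow

/-!
# The index under base change
-/

set_option autoImplicit false

open scoped TensorProduct
open Module CSAGal

namespace K438.BaseIdx

universe u v w u'

/-- The index can only drop (to a divisor) under base change to any field. -/
theorem index_baseChange_dvd (k : Type u) [Field k] (K : Type u') [Field K] [Algebra k K]
    (A : Type*) [Ring A] [Algebra k A] [Nontrivial A]
    (D : Type v) [DivisionRing D] [Algebra k D] [Algebra.IsCentral k D] [FiniteDimensional k D]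
    (m : ℕ) (iso : A ≃ₐ[k] Matrix (Fin m) (Fin m) D) (d : ℕ) (hd : finrank k D = d ^ 2)
    (D' : Type w) [DivisionRing D'] [Algebra K D'] [Algebra.IsCentral K D'] [FiniteDimensional K D']
    (m' : ℕ) (hm' : m' ≠ 0) (iso' : (K ⊗[k] A) ≃ₐ[K] Matrix (Fin m') (Fin m') D') (d' : ℕ)
    (hd' : finrank K D' = d' ^ 2) : d' ∣ d := by
  have hD : K441.Br.IsCSA k D := K441.Br.IsCSA.of_inst
  have hm := K438.Index.ne_zero_of_algEquiv k D A m iso
  have h1 : K441.Br.BrEq K (K ⊗[k] A) (K ⊗[k] D) :=
    (K441.Br.BrEq.of_matrix hm iso).baseChange K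
  have h2 : K441.Br.BrEq K (K ⊗[k] D) D' := h1.symm.trans (K441.Br.BrEq.of_matrix hm' iso')
  obtain ⟨t, D'', _, _, ht, hD'', ⟨e⟩⟩ := (hD.baseChange K).exists_div
  obtain ⟨g⟩ := ((K441.Br.BrEq.of_matrix ht e).symm.trans h2).div_unique hD''
  have h3 := (e.trans g.mapMatrix).toLinearEquiv.finrank_eq
  rw [Module.finrank_baseChange, hd, Module.finrank_matrix, Fintype.card_fin, hd'] at h3
  have h4 : d ^ 2 = (t * d') ^ 2 := by rw [h3]; ring
  have h5 : d = t * d' := Nat.pow_left_injective (n := 2) (by norm_num) h4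
  exact ⟨t, by rw [h5, mul_comm]⟩

/-- The index divides the degree of the extension times the index after base change. -/
theorem index_dvd_mul (k : Type u) [Field k] (K : Type u') [Field K] [Algebra k K]
    [FiniteDimensional k K] (A : Type*) [Ring A] [Algebra k A] [Nontrivial A]
    (D : Type v) [DivisionRing D] [Algebra k D] [FiniteDimensional k D]
    (m : ℕ) (iso : A ≃ₐ[k] Matrix (Fin m) (Fin m) D) (d : ℕ) (hd : finrank k D = d ^ 2)
    (D' : Type w) [DivisionRing D'] [Algebra K D'] [FiniteDimensional K D']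
    (m' : ℕ) (iso' : (K ⊗[k] A) ≃ₐ[K] Matrix (Fin m') (Fin m') D') (d' : ℕ)
    (hd' : finrank K D' = d' ^ 2) : d ∣ finrank k K * d' := by
  have hm := K438.Index.ne_zero_of_algEquiv k D A m iso
  let ρ : A →+* Matrix (Fin m') (Fin m') D' :=
    (iso' : (K ⊗[k] A) →+* Matrix (Fin m') (Fin m') D').comp
      (Algebra.TensorProduct.includeRight : A →ₐ[k] K ⊗[k] A).toRingHom
  let : Module A (Fin m' → D') := Module.compHom _ ρ
  have hsm : ∀ (a : A) (v : Fin m' → D'), a • v = ρ a • v := fun _ _ => rfl
  let : Module k (Fin m' → D') := Module.compHom _ (algebraMap k K)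
  have hsk : ∀ (c : k) (v : Fin m' → D'), c • v = algebraMap k K c • v := fun _ _ => rfl
  have : IsScalarTower k K (Fin m' → D') := ⟨fun c x v => by
    rw [hsk, smul_smul, Algebra.smul_def c x]⟩
  have : IsScalarTower k A (Fin m' → D') := ⟨fun c a v => by
    rw [hsm, hsk, hsm, ← smul_assoc]
    congr 1
    change iso' ((1 : K) ⊗ₜ[k] (c • a)) = algebraMap k K c • iso' ((1 : K) ⊗ₜ[k] a)
    rw [← map_smul, TensorProduct.tmul_smul, TensorProduct.smul_tmul', TensorProduct.smul_tmul',
      Algebra.smul_def, smul_eq_mul]⟩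
  have : Module.Finite K (Fin m' → D') := inferInstance
  have : Module.Finite k (Fin m' → D') := Module.Finite.trans K _
  have h1 := K438.ModDim.dvd_finrank_module k D A m iso (Fin m' → D')
  rw [← Module.finrank_mul_finrank k K (Fin m' → D'), Module.finrank_pi_fintype, hd] at h1
  simp only [Finset.sum_const, Finset.card_univ, Fintype.card_fin, smul_eq_mul, hd'] at h1
  have h2 : m * d = m' * d' := by
    have h3 := K438.Index.finrank_matrix_eq k D A m iso d hd
    have h4 := K438.Index.finrank_matrix_eq K D' (K ⊗[k] A) m' iso' d' hd'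
    rw [Module.finrank_baseChange, h3] at h4
    exact Nat.pow_left_injective (n := 2) (by norm_num) h4
  have hpos : 0 < m * d :=
    Nat.mul_pos (Nat.pos_of_ne_zero hm) (K438.Index.d_pos k D d hd)
  have h5 : m * d * d ∣ m * d * (finrank k K * d') := by
    have : m * d * (finrank k K * d') = finrank k K * (m' * d' ^ 2) := by
      rw [h2]; ring
    rw [this]
    convert h1 using 1
    ring
  exact Nat.dvd_of_mul_dvd_mul_left hpos h5

end K438.BaseIdx
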