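import Groth.Agent.Brauer.K438.ExtIdx
import Groth.Agent.Brauer.K438.BaseIdx
import Groth.Agent.Brauer.K438.Basic2
import Mathlib.GroupTheory.Sylow
import Mathlib.FieldTheory.Galois.Basic

/-!
# Period and index of central simple algebras
-/

set_option autoImplicit false

open scoped TensorProduct
open Module CSAGal

namespace K438.PerInd

universe u v w u'

open K441.Br K441.TPow

/-! ### the index -/

theorem exists_isIndex {k : Type u} [Field k] {A : Type v} [Ring A] [Algebra k A]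
    (hA : IsCSA k A) : ∃ d : ℕ, IsIndex k A d := by
  obtain ⟨m, D, _, _, hm, hD, ⟨e⟩⟩ := hA.exists_div
  have := hD.1; have := hD.2; have := hD.3
  obtain ⟨d, hd0, hd⟩ := K438.Index.exists_degree k D
  exact ⟨d, Nat.pos_of_ne_zero hd0, m, D, _, _, Nat.pos_of_ne_zero hm, hd, ⟨e⟩⟩

/-- The division algebra witnessing the index of a central simple algebra is central simple. -/
theorem IsIndex.exists_div {k : Type u} [Field k] {A : Type v} [Ring A] [Algebra k A]
    (hA : IsCSA k A) {d : ℕ} (h : IsIndex k A d) :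
    ∃ (m : ℕ) (D : Type v) (_ : DivisionRing D) (_ : Algebra k D), m ≠ 0 ∧ IsCSA k D ∧
      finrank k D = d ^ 2 ∧ Nonempty (A ≃ₐ[k] Matrix (Fin m) (Fin m) D) := by
  obtain ⟨h0, m, D, _, _, hm, hd, ⟨e⟩⟩ := h
  exact ⟨m, D, _, _, hm.ne', IsCSA.of_matrix hm.ne' (hA.congr e), hd, ⟨e⟩⟩

/-- The index only depends on the Brauer class. -/
theorem isIndex_unique_of_brEq {k : Type u} [Field k] {A : Type v} [Ring A] [Algebra k A]
    {B : Type w} [Ring B] [Algebra k B] (hA : IsCSA k A) (h : BrEq k A B) {d d' : ℕ}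
    (hd : IsIndex k A d) (hd' : IsIndex k B d') : d = d' := by
  obtain ⟨m, D, _, _, hm, hD, hf, ⟨e⟩⟩ := IsIndex.exists_div hA hd
  obtain ⟨m', D', _, _, hm', hD', hf', ⟨e'⟩⟩ := IsIndex.exists_div (hA.of_brEq h) hd'
  obtain ⟨g⟩ := ((BrEq.of_matrix hm e).symm.trans (h.trans (BrEq.of_matrix hm' e'))).div_unique hD
  have h1 := g.toLinearEquiv.finrank_eq
  rw [hf, hf'] at h1
  exact Nat.pow_left_injective (n := 2) (by norm_num) h1

theorem isIndex_unique {k : Type u} [Field k] {A : Type v} [Ring A] [Algebra k A]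
    (hA : IsCSA k A) {d d' : ℕ} (hd : IsIndex k A d) (hd' : IsIndex k A d') : d = d' :=
  isIndex_unique_of_brEq hA (BrEq.refl) hd hd'

theorem isIndex_congr {k : Type u} [Field k] {A : Type v} [Ring A] [Algebra k A]
    {B : Type w} [Ring B] [Algebra k B] (hA : IsCSA k A) (h : BrEq k A B) {d : ℕ}
    (hd : IsIndex k A d) : IsIndex k B d := by
  obtain ⟨d', hd'⟩ := exists_isIndex (hA.of_brEq h)
  rwa [isIndex_unique_of_brEq hA h hd hd']

theorem isIndex_one_iff {k : Type u} [Field k] {A : Type v} [Ring A] [Algebra k A]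
    (hA : IsCSA k A) : IsIndex k A 1 ↔ BrEq k A k := by
  constructor
  · intro h
    obtain ⟨m, D, _, _, hm, hD, hf, ⟨e⟩⟩ := IsIndex.exists_div hA h
    have := hD.nontrivial
    exact (BrEq.of_matrix hm e).trans (BrEq.of_algEquiv
      (K438.Index.algEquivOfFinrankOne k D (by rw [hf, one_pow])).symm)
  · intro h
    obtain ⟨d, hd⟩ := exists_isIndex hA
    have h1 : IsIndex k k 1 := ⟨one_pos, 1, k, inferInstance, inferInstance, one_pos,
      by rw [Module.finrank_self, one_pow], ⟨matOne k k⟩⟩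
    rwa [← isIndex_unique_of_brEq hA h hd h1]

theorem isIndex_dvd_of_splits {k : Type u} [Field k] {A : Type v} [Ring A] [Algebra k A]
    (hA : IsCSA k A) {d : ℕ} (hd : IsIndex k A d) (K : Type w) [Field K] [Algebra k K]
    [FiniteDimensional k K] (h : Curves.Splits k A K) : d ∣ finrank k K := by
  obtain ⟨m, D, _, _, hm, hD, hf, ⟨e⟩⟩ := IsIndex.exists_div hA hd
  have := hD.1; have := hD.2; have := hD.3
  exact K438.Index.dvd_of_splits_matrix k D d hf A m hm e K h

theorem isIndex_baseChange {k : Type u} [Field k] {A : Type v} [Ring A] [Algebra k A]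
    (hA : IsCSA k A) {d d' : ℕ} (hd : IsIndex k A d) (K : Type w) [Field K] [Algebra k K]
    (hd' : IsIndex K (K ⊗[k] A) d') : d' ∣ d := by
  obtain ⟨m, D, _, _, hm, hD, hf, ⟨e⟩⟩ := IsIndex.exists_div hA hd
  obtain ⟨m', D', _, _, hm', hD', hf', ⟨e'⟩⟩ := IsIndex.exists_div (hA.baseChange K) hd'
  have := hD.1; have := hD.2; have := hD.3
  have := hD'.1; have := hD'.2; have := hD'.3
  have := hA.nontrivial
  exact K438.BaseIdx.index_baseChange_dvd k K A D m e d hf D' m' hm' e' d' hf'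

theorem isIndex_dvd_mul {k : Type u} [Field k] {A : Type v} [Ring A] [Algebra k A]
    (hA : IsCSA k A) {d d' : ℕ} (hd : IsIndex k A d) (K : Type w) [Field K] [Algebra k K]
    [FiniteDimensional k K] (hd' : IsIndex K (K ⊗[k] A) d') : d ∣ finrank k K * d' := by
  obtain ⟨m, D, _, _, hm, hD, hf, ⟨e⟩⟩ := IsIndex.exists_div hA hd
  obtain ⟨m', D', _, _, hm', hD', hf', ⟨e'⟩⟩ := IsIndex.exists_div (hA.baseChange K) hd'
  have := hD.3
  have := hD'.3
  have := hA.nontrivial
  exact K438.BaseIdx.index_dvd_mul k K A D m e d hf D' m' e' d' hf'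

/-- The index of a tensor power divides the binomial coefficient. -/
theorem isIndex_tpow_dvd_choose {k : Type u} [Field k] {A : Type v} [Ring A] [Algebra k A]
    (hA : IsCSA k A) {d : ℕ} (hd : IsIndex k A d) (r : ℕ) {d' : ℕ}
    (hd' : IsIndex k (tpow k A r) d') : d' ∣ Nat.choose d r := by
  obtain ⟨m, D, _, _, hm, hD, hf, ⟨e⟩⟩ := IsIndex.exists_div hA hd
  obtain ⟨m', D', _, _, hm', hD', hf', ⟨e'⟩⟩ := IsIndex.exists_div (isCSA_tpow hA r) hd'
  have := hA.1; have := hA.2; have := hA.3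
  have := hD.1; have := hD.2; have := hD.3
  have := hD'.1; have := hD'.2; have := hD'.3
  exact K438.ExtIdx.index_dvd_choose k A D m e d hf r D' m' e' d' hf'

/-- The index kills the class. -/
theorem brEq_tpow_isIndex {k : Type u} [Field k] {A : Type v} [Ring A] [Algebra k A]
    (hA : IsCSA k A) {d : ℕ} (hd : IsIndex k A d) : BrEq k (tpow k A d) k := by
  obtain ⟨d', hd'⟩ := exists_isIndex (isCSA_tpow hA d)
  have h1 := isIndex_tpow_dvd_choose hA hd d hd'
  rw [Nat.choose_self, Nat.dvd_one] at h1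
  subst h1
  exact (isIndex_one_iff (isCSA_tpow hA d)).1 hd'

/-! ### the period -/

theorem exists_isPeriod_of_brEq {k : Type u} [Field k] {A : Type v} [Ring A] [Algebra k A]
    (hA : IsCSA k A) {n : ℕ} (hn : 0 < n) (h : BrEq k (tpow k A n) k) :
    ∃ e : ℕ, IsPeriod k A e := by
  classical
  have hex : ∃ e : ℕ, 0 < e ∧ BrEq k (tpow k A e) k := ⟨n, hn, h⟩
  refine ⟨Nat.find hex, ?_⟩
  rw [isPeriod_iff hA]
  refine ⟨(Nat.find_spec hex).1, (Nat.find_spec hex).2, fun e' h1 h2 h3 => ?_⟩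
  exact Nat.find_min hex h2 ⟨h1, h3⟩

theorem exists_isPeriod {k : Type u} [Field k] {A : Type v} [Ring A] [Algebra k A]
    (hA : IsCSA k A) : ∃ e : ℕ, IsPeriod k A e := by
  obtain ⟨d, hd⟩ := exists_isIndex hA
  exact exists_isPeriod_of_brEq hA hd.1 (brEq_tpow_isIndex hA hd)

theorem isPeriod_dvd_isIndex {k : Type u} [Field k] {A : Type v} [Ring A] [Algebra k A]
    (hA : IsCSA k A) {d e : ℕ} (hd : IsIndex k A d) (he : IsPeriod k A e) : e ∣ d :=
  (isPeriod_dvd hA he d).1 (brEq_tpow_isIndex hA hd)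

theorem isPeriod_one_iff {k : Type u} [Field k] {A : Type v} [Ring A] [Algebra k A]
    (hA : IsCSA k A) : IsPeriod k A 1 ↔ BrEq k A k := by
  rw [isPeriod_iff hA]
  constructor
  · rintro ⟨_, h, _⟩
    exact brEq_tpow_one.symm.trans h
  · intro h
    exact ⟨one_pos, brEq_tpow_one.trans h, fun e' h1 h2 => by omega⟩

/-- If two coprime tensor powers are split then so is the algebra. -/
theorem brEq_of_coprime {k : Type u} [Field k] {A : Type v} [Ring A] [Algebra k A]
    (hA : IsCSA k A) {m n : ℕ} (hmn : Nat.Coprime m n) (hm : BrEq k (tpow k A m) k)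
    (hn : BrEq k (tpow k A n) k) : BrEq k A k := by
  obtain ⟨e, he⟩ := exists_isPeriod hA
  have h1 := (isPeriod_dvd hA he m).1 hm
  have h2 := (isPeriod_dvd hA he n).1 hn
  have h3 : e = 1 := by
    have := Nat.dvd_gcd h1 h2
    rw [hmn] at this
    exact Nat.dvd_one.1 this
  subst h3
  exact (isPeriod_one_iff hA).1 he

/-- A `p`-Sylow field in a finite Galois extension. -/
theorem exists_sylow_field (k : Type u) [Field k] (M : Type w) [Field M] [Algebra k M]
    [FiniteDimensional k M] [IsGalois k M] (p : ℕ) (hp : p.Prime) :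
    ∃ (K : IntermediateField k M) (a : ℕ), finrank K M = p ^ a ∧ ¬ p ∣ finrank k K := by
  have : Fact p.Prime := ⟨hp⟩
  have hfin : Finite (M ≃ₐ[k] M) := inferInstance
  obtain ⟨P⟩ : Nonempty (Sylow p (M ≃ₐ[k] M)) := inferInstance
  obtain ⟨a, ha⟩ := IsPGroup.iff_card.1 P.isPGroup'
  refine ⟨IntermediateField.fixedField (P : Subgroup (M ≃ₐ[k] M)), a, ?_, ?_⟩
  · rw [IntermediateField.finrank_fixedField_eq_card, ← ha]
  · intro h
    have h1 : finrank k (IntermediateField.fixedField (P : Subgroup (M ≃ₐ[k] M))) *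
        finrank (IntermediateField.fixedField (P : Subgroup (M ≃ₐ[k] M))) M = finrank k M :=
      Module.finrank_mul_finrank _ _ _
    rw [IntermediateField.finrank_fixedField_eq_card, ← IsGalois.card_aut_eq_finrank k M,
      ← Subgroup.index_mul_card (P : Subgroup (M ≃ₐ[k] M))] at h1
    have h2 := Nat.eq_of_mul_eq_mul_right Nat.card_pos h1
    rw [h2] at h
    exact P.not_dvd_index h

/-- Every prime dividing the index divides every exponent killing the class. -/
theorem prime_dvd {k : Type u} [Field k] {A : Type v} [Ring A] [Algebra k A]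
    (hA : IsCSA k A) {d : ℕ} (hd : IsIndex k A d) {e : ℕ} (he : BrEq k (tpow k A e) k)
    {p : ℕ} (hp : p.Prime) (hpd : p ∣ d) : p ∣ e := by
  by_contra hpe
  have := hA.1; have := hA.2; have := hA.3
  obtain ⟨M, _, _, _, _, hM⟩ := Groth.Agent.CurvesA.SepSplit.exists_galois_splitting k A
  obtain ⟨K, a, ha, hK⟩ := exists_sylow_field k M p hp
  have hAK := hA.baseChange K
  obtain ⟨d', hd'⟩ := exists_isIndex hAK
  have h1 := isIndex_dvd_mul hA hd K hd'
  have h2 : p ∣ d' := ((hp.dvd_mul).1 (hpd.trans h1)).resolve_left hK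
  have h3 : Curves.Splits K (K ⊗[k] A) M := K438.Basic.splits_baseChange k K A M hM
  have h4 : BrEq K (tpow K (K ⊗[k] A) (p ^ a)) K := by
    have := hAK.1; have := hAK.2; have := hAK.3
    have h5 := K438.ExtIdx.splits_tpow_of_splits K (K ⊗[k] A) M h3
    rw [ha] at h5
    exact (splits_tpow_iff hAK _).1 h5
  have h5 : BrEq K (tpow K (K ⊗[k] A) e) K :=
    (brEq_bc_tpow K e).symm.trans ((he.baseChange K).trans
      (BrEq.of_algEquiv (Algebra.TensorProduct.rid k K K)))
  have hco : Nat.Coprime (p ^ a) e := ((Nat.Prime.coprime_iff_not_dvd hp).2 hpe).pow_left a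
  have h6 := (isIndex_one_iff hAK).2 (brEq_of_coprime hAK hco h4 h5)
  have h7 := isIndex_unique hAK hd' h6
  rw [h7, Nat.dvd_one] at h2
  exact hp.one_lt.ne' h2

/-- The period and the index have the same prime factors. -/
theorem prime_dvd_isPeriod_iff {k : Type u} [Field k] {A : Type v} [Ring A] [Algebra k A]
    (hA : IsCSA k A) {d e : ℕ} (hd : IsIndex k A d) (he : IsPeriod k A e) {p : ℕ}
    (hp : p.Prime) : p ∣ e ↔ p ∣ d :=
  ⟨fun h => h.trans (isPeriod_dvd_isIndex hA hd he),
    fun h => prime_dvd hA hd ((isPeriod_iff hA e).1 he).2.1 hp h⟩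

end K438.PerInd
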