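import Mathlib.LinearAlgebra.Matrix.Rank
import Mathlib.Order.Hom.PowersetCard
import Mathlib.Data.Fin.Tuple.Sort
import Mathlib.GroupTheory.Perm.Sign
import Mathlib.LinearAlgebra.ExteriorPower.Basis

/-!
# The antisymmetriser as a matrix: rank `C(n, r)`
-/

set_option autoImplicit false

open Finset

namespace K438.Antisym

variable (R : Type*) [CommRing R] (r n : ℕ)

/-- The antisymmetriser on `(R ^ n) ^ {⊗ r}` as a matrix. -/
noncomputable def asym : Matrix (Fin r → Fin n) (Fin r → Fin n) R :=
  Matrix.of fun f g => ∑ π : Equiv.Perm (Fin r), if g ∘ π = f then ((Equiv.Perm.sign π : ℤ) : R) else 0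

theorem asym_apply (f g : Fin r → Fin n) : asym R r n f g =
    ∑ π : Equiv.Perm (Fin r), if g ∘ π = f then ((Equiv.Perm.sign π : ℤ) : R) else 0 := rfl

theorem asym_comp (f g : Fin r → Fin n) (τ : Equiv.Perm (Fin r)) :
    asym R r n (f ∘ τ) g = ((Equiv.Perm.sign τ : ℤ) : R) * asym R r n f g := by
  rw [asym_apply, asym_apply, mul_sum, ← Equiv.sum_comp (Equiv.mulRight τ)]
  refine sum_congr rfl fun π _ => ?_
  have h1 : g ∘ ⇑((Equiv.mulRight τ) π) = f ∘ ⇑τ ↔ g ∘ ⇑π = f := by
    rw [Equiv.coe_mulRight, Equiv.Perm.coe_mul, ← Function.comp_assoc]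
    exact (Function.Surjective.injective_comp_right τ.surjective).eq_iff
  by_cases h : g ∘ ⇑π = f
  · rw [if_pos h, if_pos (h1.2 h), Equiv.coe_mulRight, Equiv.Perm.sign_mul]
    push_cast
    ring
  · rw [if_neg h, if_neg (fun h' => h (h1.1 h')), mul_zero]

theorem asym_of_not_injective (f g : Fin r → Fin n) (hf : ¬ Function.Injective f) :
    asym R r n f g = 0 := by
  rw [asym_apply]
  simp only [Function.Injective, not_forall] at hf
  obtain ⟨a, b, hab, hne⟩ := hf
  have hfs : f ∘ ⇑(Equiv.swap a b) = f := by
    funext i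
    simp only [Function.comp_apply]
    rcases eq_or_ne i a with rfl | hia
    · rw [Equiv.swap_apply_left, hab]
    · rcases eq_or_ne i b with rfl | hib
      · rw [Equiv.swap_apply_right, hab]
      · rw [Equiv.swap_apply_of_ne_of_ne hia hib]
  refine sum_involution (fun π _ => π * Equiv.swap a b) ?_ ?_ ?_ ?_
  · intro π _
    have h1 : g ∘ ⇑(π * Equiv.swap a b) = f ↔ g ∘ ⇑π = f := by
      rw [Equiv.Perm.coe_mul, ← Function.comp_assoc]
      conv_lhs => rhs; rw [← hfs]
      exact (Function.Surjective.injective_comp_right (Equiv.swap a b).surjective).eq_iff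
    by_cases h : g ∘ ⇑π = f
    · rw [if_pos h, if_pos (h1.2 h), Equiv.Perm.sign_mul, Equiv.Perm.sign_swap hne]
      push_cast
      ring
    · rw [if_neg h, if_neg (fun h' => h (h1.1 h')), add_zero]
  · intro π _ _ h
    rw [mul_eq_left] at h
    exact hne (Equiv.swap_eq_one_iff.1 h)
  · intro π _
    exact mem_univ _
  · intro π _
    rw [mul_assoc, Equiv.swap_mul_self, mul_one]

theorem asym_strictMono (f g : Fin r ↪o Fin n) [Decidable (f = g)] :
    asym R r n f g = if f = g then 1 else 0 := by
  rw [asym_apply]
  by_cases h : f = g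
  · subst h
    rw [if_pos rfl, sum_eq_single 1]
    · rw [if_pos (by rw [Equiv.Perm.coe_one, Function.comp_id]), Equiv.Perm.sign_one]
      simp
    · intro π _ hπ
      rw [if_neg]
      intro h1
      apply hπ
      ext i
      have := congrFun h1 i
      exact congrArg Fin.val (f.injective this)
    · intro h; exact absurd (mem_univ _) h
  · rw [if_neg h]
    refine sum_eq_zero fun π _ => ?_
    rw [if_neg]
    intro h1
    apply h
    have h2 : Set.range (f : Fin r → Fin n) = Set.range (g : Fin r → Fin n) := by
      rw [← h1, Set.range_comp, π.surjective.range_eq, Set.image_univ]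
    have h3 := (StrictMono.range_inj f.strictMono g.strictMono).1 h2
    exact DFunLike.coe_injective h3

theorem exists_strictMono (f : Fin r → Fin n) (hf : Function.Injective f) :
    ∃ (e : Fin r ↪o Fin n) (τ : Equiv.Perm (Fin r)), f = e ∘ τ := by
  have h1 : Monotone (f ∘ ⇑(Tuple.sort f)) := Tuple.monotone_sort f
  have h2 : StrictMono (f ∘ ⇑(Tuple.sort f)) :=
    h1.strictMono_of_injective (hf.comp (Tuple.sort f).injective)
  refine ⟨OrderEmbedding.ofStrictMono _ h2, (Tuple.sort f)⁻¹, ?_⟩
  funext i
  simp [OrderEmbedding.coe_ofStrictMono]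

theorem card_orderEmb : Fintype.card (Fin r ↪o Fin n) = Nat.choose n r := by
  classical
  rw [← Nat.card_eq_fintype_card, Nat.card_congr Set.powersetCard.ofFinEmbEquiv,
    Set.powersetCard.card]
  simp

section

variable (F : Type*) [Field F]

open Module

theorem linearIndependent_rows :
    LinearIndependent F (fun e : Fin r ↪o Fin n => (asym F r n) (e : Fin r → Fin n)) := by
  classical
  rw [Fintype.linearIndependent_iff]
  intro c hc e
  have h1 := congrFun hc (e : Fin r → Fin n)
  rw [Finset.sum_apply] at h1
  simp only [Pi.smul_apply, smul_eq_mul, asym_strictMono, mul_ite, mul_one, mul_zero,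
    Finset.sum_ite_eq', Finset.mem_univ, if_true, Pi.zero_apply] at h1
  exact h1

theorem span_rows : LinearMap.range (asym F r n).vecMulLinear =
    Submodule.span F (Set.range (fun e : Fin r ↪o Fin n => (asym F r n) (e : Fin r → Fin n))) := by
  rw [_root_.range_vecMulLinear]
  apply le_antisymm
  · rw [Submodule.span_le]
    rintro _ ⟨f, rfl⟩
    by_cases hf : Function.Injective f
    · obtain ⟨e, τ, rfl⟩ := exists_strictMono r n f hf
      have h1 : (asym F r n).row (e ∘ τ) = ((Equiv.Perm.sign τ : ℤ) : F) • (asym F r n) e := by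
        ext g
        exact asym_comp F r n e g τ
      rw [h1]
      exact Submodule.smul_mem _ _ (Submodule.subset_span ⟨e, rfl⟩)
    · have h1 : (asym F r n).row f = 0 := by
        ext g
        exact asym_of_not_injective F r n f g hf
      rw [h1]
      exact zero_mem _
  · rw [Submodule.span_le]
    rintro _ ⟨e, rfl⟩
    exact Submodule.subset_span ⟨e, rfl⟩

theorem finrank_range_vecMul :
    finrank F (LinearMap.range (asym F r n).vecMulLinear) = Nat.choose n r := by
  rw [span_rows, finrank_span_eq_card (linearIndependent_rows r n F), card_orderEmb]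

theorem finrank_range_mulRight {I : Type*} [Fintype I] [DecidableEq I] (s : Matrix I I F) :
    finrank F (LinearMap.range (LinearMap.mulRight F s)) =
      Fintype.card I * finrank F (LinearMap.range s.vecMulLinear) := by
  let g : (I → LinearMap.range s.vecMulLinear) →ₗ[F] Matrix I I F :=
    { toFun := fun v => Matrix.of fun i => (v i : I → F)
      map_add' := fun _ _ => rfl
      map_smul' := fun _ _ => rfl }
  have hg : Function.Injective g := by
    intro v w h
    funext i
    exact Subtype.ext (congrFun h i)
  have hr : LinearMap.range g = LinearMap.range (LinearMap.mulRight F s) := by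
    apply le_antisymm
    · rintro _ ⟨v, rfl⟩
      choose x hx using fun i => (v i).2
      refine ⟨Matrix.of x, ?_⟩
      ext i j
      exact congrFun (hx i) j
    · rintro _ ⟨X, rfl⟩
      exact ⟨fun i => ⟨s.vecMulLinear (X i), ⟨X i, rfl⟩⟩, rfl⟩
  rw [← hr, LinearMap.finrank_range_of_inj hg, Module.finrank_pi_fintype]
  simp

theorem finrank_range_mulRight_asym :
    finrank F (LinearMap.range (LinearMap.mulRight F (asym F r n))) = n ^ r * Nat.choose n r := by
  rw [finrank_range_mulRight, finrank_range_vecMul]
  simp

end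

end K438.Antisym
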