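import Mathlib.RingTheory.TensorProduct.Maps
import Mathlib.RingTheory.MatrixAlgebra
import Mathlib.LinearAlgebra.Matrix.Reindex
import Groth.Prelude.Def_Curves

/-!
# Base change of non-commutative algebras: transitivity, tensor products, splitting
-/

set_option autoImplicit false
set_option linter.unusedSectionVars false

open scoped TensorProduct

namespace K438.Basic

section

variable (k K T M B : Type*) [CommRing k] [CommRing K] [CommRing T] [Algebra k K] [Ring M]
  [Algebra K M] [Algebra k M] [IsScalarTower k K M] [Ring B] [Algebra k B] [Algebra K T]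
  [Algebra k T] [IsScalarTower k K T] [Algebra T M] [IsScalarTower K T M] [IsScalarTower k T M]

/-- `M ⊗[K] (K ⊗[k] B) ≃ M ⊗[k] B` for non-commutative algebras. -/
noncomputable def cancel : M ⊗[K] (K ⊗[k] B) ≃ₐ[T] M ⊗[k] B :=
  (Algebra.TensorProduct.assoc k K T M K B).symm.trans
    (Algebra.TensorProduct.congr (Algebra.TensorProduct.rid K T M) AlgEquiv.refl)

theorem cancel_tmul (m : M) (x : K) (b : B) :
    cancel k K T M B (m ⊗ₜ[K] (x ⊗ₜ[k] b)) = (x • m) ⊗ₜ[k] b := by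
  simp [cancel]

theorem cancel_symm_tmul (m : M) (b : B) :
    (cancel k K T M B).symm (m ⊗ₜ[k] b) = m ⊗ₜ[K] ((1 : K) ⊗ₜ[k] b) := by
  rw [AlgEquiv.symm_apply_eq, cancel_tmul, one_smul]

end

section

variable (k K A B : Type*) [CommRing k] [CommRing K] [Algebra k K] [Ring A] [Algebra k A]
  [Ring B] [Algebra k B]

/-- Base change commutes with tensor products of (non-commutative) algebras. -/
noncomputable def distrib : K ⊗[k] (A ⊗[k] B) ≃ₐ[K] (K ⊗[k] A) ⊗[K] (K ⊗[k] B) :=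
  (Algebra.TensorProduct.assoc k k K K A B).symm.trans (cancel k K K (K ⊗[k] A) B).symm

theorem distrib_tmul (x : K) (a : A) (b : B) :
    distrib k K A B (x ⊗ₜ[k] (a ⊗ₜ[k] b)) = (x ⊗ₜ[k] a) ⊗ₜ[K] ((1 : K) ⊗ₜ[k] b) := by
  rw [distrib, AlgEquiv.trans_apply]
  change (cancel k K K (K ⊗[k] A) B).symm ((x ⊗ₜ[k] a) ⊗ₜ[k] b) = _
  rw [cancel_symm_tmul]

end

section

variable (k K A B : Type*) [Field k] [Field K] [Algebra k K] [Ring A] [Algebra k A]
  [Ring B] [Algebra k B]

/-- Kronecker product isomorphism with sizes `Fin`. -/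
noncomputable def kron (R : Type*) [CommRing R] (m n : ℕ) :
    Matrix (Fin m) (Fin m) R ⊗[R] Matrix (Fin n) (Fin n) R ≃ₐ[R]
      Matrix (Fin (m * n)) (Fin (m * n)) R :=
  (Matrix.kroneckerTMulAlgEquiv (Fin m) (Fin n) R R R R).trans <|
    ((Algebra.TensorProduct.lid R R).mapMatrix).trans <|
    Matrix.reindexAlgEquiv R R finProdFinEquiv

theorem splits_tensor (hA : Curves.Splits k A K) (hB : Curves.Splits k B K) :
    Curves.Splits k (A ⊗[k] B) K := by
  obtain ⟨m, hm, ⟨e⟩⟩ := hA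
  obtain ⟨n, hn, ⟨f⟩⟩ := hB
  exact ⟨m * n, mul_ne_zero hm hn, ⟨(distrib k K A B).trans <|
    (Algebra.TensorProduct.congr e f).trans (kron K m n)⟩⟩

theorem splits_congr {k K A B} [Field k] [Field K] [Algebra k K] [Ring A] [Algebra k A]
    [Ring B] [Algebra k B] (e : A ≃ₐ[k] B) (h : Curves.Splits k A K) : Curves.Splits k B K := by
  obtain ⟨n, hn, ⟨f⟩⟩ := h
  exact ⟨n, hn, ⟨(Algebra.TensorProduct.congr (AlgEquiv.refl : K ≃ₐ[K] K) e.symm).trans f⟩⟩

theorem splits_of_splits_baseChange (L : Type*) [Field L] [Algebra k L] [Algebra K L]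
    [IsScalarTower k K L] (h : Curves.Splits K (K ⊗[k] A) L) : Curves.Splits k A L := by
  obtain ⟨n, hn, ⟨e⟩⟩ := h
  exact ⟨n, hn, ⟨(cancel k K L L A).symm.trans e⟩⟩

theorem splits_baseChange (L : Type*) [Field L] [Algebra k L] [Algebra K L]
    [IsScalarTower k K L] (h : Curves.Splits k A L) : Curves.Splits K (K ⊗[k] A) L := by
  obtain ⟨n, hn, ⟨e⟩⟩ := h
  exact ⟨n, hn, ⟨(cancel k K L L A).trans e⟩⟩

end

end K438.Basic
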