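import Groth.Agent.Brauer.K438.Index
import Groth.Agent.CurvesA.EndDim

/-!
# Dimensions of modules over a central simple algebra
-/

set_option autoImplicit false

open scoped TensorProduct
open Module

namespace K438.ModDim

universe u v w

variable (k : Type u) [Field k] (D : Type v) [DivisionRing D] [Algebra k D] [FiniteDimensional k D]

theorem dvd_finrank_matrix_module (m : ℕ) (hm : m ≠ 0) (M : Type w) [AddCommGroup M]
    [Module (Matrix (Fin m) (Fin m) D) M] [Module k M]
    [IsScalarTower k (Matrix (Fin m) (Fin m) D) M] [Module.Finite k M] :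
    m * finrank k D ∣ finrank k M := by
  have : NeZero m := ⟨hm⟩
  rcases subsingleton_or_nontrivial M with h | h
  · have h0 : finrank k M = 0 := Module.finrank_zero_of_subsingleton
    rw [h0]
    exact dvd_zero _
  have : IsArtinianRing (Matrix (Fin m) (Fin m) D) := IsArtinianRing.of_finite k _
  have := Groth.Agent.CurvesA.MatrixDiv.isSimpleModule_column D m
  have : Module.Finite (Matrix (Fin m) (Fin m) D) M :=
    Module.Finite.of_restrictScalars_finite k _ _
  obtain ⟨j, _, ⟨e⟩⟩ := Groth.Agent.CurvesA.EndDim.exists_linearEquiv_fun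
    (Matrix (Fin m) (Fin m) D) (Fin m → D) M
  have h1 : finrank k M = finrank k (Fin j → Fin m → D) := (e.restrictScalars k).finrank_eq
  rw [h1, Module.finrank_pi_fintype]
  simp only [Module.finrank_pi_fintype, Finset.sum_const, Finset.card_univ, Fintype.card_fin,
    smul_eq_mul]
  exact dvd_mul_left _ _

/-- Modules over `A ≅ M_m(D)` have dimension divisible by `m * dim D`. -/
theorem dvd_finrank_module (A : Type*) [Ring A] [Algebra k A] [Nontrivial A] (m : ℕ)
    (e : A ≃ₐ[k] Matrix (Fin m) (Fin m) D) (M : Type w) [AddCommGroup M]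
    [Module A M] [Module k M] [IsScalarTower k A M] [Module.Finite k M] :
    m * finrank k D ∣ finrank k M := by
  have hm := K438.Index.ne_zero_of_algEquiv k D A m e
  let : Module (Matrix (Fin m) (Fin m) D) M := Module.compHom M e.symm.toRingEquiv.toRingHom
  have hsm : ∀ (X : Matrix (Fin m) (Fin m) D) (x : M), X • x = e.symm X • x := fun _ _ => rfl
  have : IsScalarTower k (Matrix (Fin m) (Fin m) D) M := ⟨fun c X x => by
    rw [hsm, hsm, map_smul, smul_assoc]⟩
  exact dvd_finrank_matrix_module k D m hm M

/-- Left ideals generated by one element. -/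
theorem dvd_finrank_range_mulRight (A : Type*) [Ring A] [Algebra k A] [Nontrivial A]
    [FiniteDimensional k A] (m : ℕ)
    (e : A ≃ₐ[k] Matrix (Fin m) (Fin m) D) (s : A) :
    m * finrank k D ∣ finrank k (LinearMap.range (LinearMap.mulRight k s)) := by
  have h1 := dvd_finrank_module k D A m e (Submodule.span A {s})
  have h2 : (Submodule.span A {s}).restrictScalars k = LinearMap.range (LinearMap.mulRight k s) := by
    ext x
    rw [Submodule.restrictScalars_mem, Submodule.mem_span_singleton]
    exact Iff.rfl
  rw [← h2]
  exact h1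

end K438.ModDim
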