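import Groth.Agent.Brauer.K438.ExtPow
import Groth.Agent.Brauer.K438.ModDim

/-!
# The index of `A ^ {⊗ r}` divides the binomial coefficient
-/

set_option autoImplicit false

open scoped TensorProduct
open Module CSAGal

namespace K438.ExtIdx

universe u v w

theorem finrank_range_baseChange (k : Type u) [Field k] (M : Type w) [Field M] [Algebra k M]
    {V W : Type*} [AddCommGroup V] [Module k V] [AddCommGroup W] [Module k W]
    [FiniteDimensional k W]
    (f : V →ₗ[k] W) : finrank M (LinearMap.range (f.baseChange M)) = finrank k (LinearMap.range f) := by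
  have h1 : f = (LinearMap.range f).subtype ∘ₗ f.rangeRestrict := by ext; rfl
  have h2 : f.baseChange M = ((LinearMap.range f).subtype).baseChange M ∘ₗ
      (f.rangeRestrict).baseChange M := by
    conv_lhs => rw [h1]
    exact LinearMap.baseChange_comp _ _
  have h3 : Function.Surjective ((f.rangeRestrict).baseChange M) :=
    LinearMap.lTensor_surjective M f.surjective_rangeRestrict
  have h4 : Function.Injective (((LinearMap.range f).subtype).baseChange M) :=
    Module.Flat.lTensor_preserves_injective_linearMap (M := M) _ Subtype.val_injective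
  rw [h2, LinearMap.range_comp_of_range_eq_top _ (LinearMap.range_eq_top.2 h3),
    LinearMap.finrank_range_of_inj h4, Module.finrank_baseChange]

theorem baseChange_mulRight (k : Type u) [Field k] (M : Type w) [Field M] [Algebra k M]
    {B : Type*} [Ring B] [Algebra k B] (t : B) :
    (LinearMap.mulRight k t).baseChange M = LinearMap.mulRight M ((1 : M) ⊗ₜ[k] t) := by
  apply TensorProduct.AlgebraTensorModule.ext
  intro x b
  simp

theorem finrank_range_mulRight_algEquiv {K : Type*} [Field K] {B C : Type*} [Ring B] [Algebra K B]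
    [Ring C] [Algebra K C] (e : B ≃ₐ[K] C) (t : B) :
    finrank K (LinearMap.range (LinearMap.mulRight K t)) =
      finrank K (LinearMap.range (LinearMap.mulRight K (e t))) := by
  have h : (LinearMap.range (LinearMap.mulRight K t)).map (e.toLinearEquiv : B →ₗ[K] C) =
      LinearMap.range (LinearMap.mulRight K (e t)) := by
    ext x
    simp only [Submodule.mem_map, LinearMap.mem_range, LinearMap.mulRight_apply]
    constructor
    · rintro ⟨_, ⟨y, rfl⟩, rfl⟩
      exact ⟨e y, by simp⟩
    · rintro ⟨y, rfl⟩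
      exact ⟨_, ⟨e.symm y, rfl⟩, by simp⟩
  rw [← h]
  exact (LinearEquiv.finrank_map_eq e.toLinearEquiv _).symm

/-- The element of `A ^ {⊗ r}` whose left ideal has dimension `n ^ r * C(n, r)`. -/
theorem exists_element (k : Type u) [Field k] (A : Type v) [Ring A] [Algebra k A]
    [Algebra.IsCentral k A] [IsSimpleRing A] [FiniteDimensional k A] (n : ℕ)
    (hn : finrank k A = n ^ 2) (r : ℕ) :
    ∃ t : tpow k A r, finrank k (LinearMap.range (LinearMap.mulRight k t)) =
      n ^ r * Nat.choose n r := by
  obtain ⟨M, _, _, _, _, m, hm, ⟨e⟩⟩ := Groth.Agent.CurvesA.SepSplit.exists_galois_splitting k A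
  have hmn : m = n := by
    have h1 := e.toLinearEquiv.finrank_eq
    rw [Module.finrank_baseChange, hn, Module.finrank_matrix] at h1
    simp only [Fintype.card_fin, Module.finrank_self, mul_one] at h1
    rw [← sq] at h1
    exact (Nat.pow_left_injective (n := 2) (by norm_num) h1).symm
  subst hmn
  let ρ : A →ₐ[k] Matrix (Fin m) (Fin m) M :=
    (e.toAlgHom.restrictScalars k).comp Algebra.TensorProduct.includeRight
  obtain ⟨t, ht⟩ := K438.ExtPow.exists_descend ρ hm hn r (K438.Antisym.asym M r m)
    (fun σ => by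
      ext f g
      rw [Matrix.map_apply, K438.Antisym.asym_apply, map_sum]
      exact Finset.sum_congr rfl fun π _ => by split_ifs <;> simp)
    (fun g => K438.ExtPow.asym_mul_kap g)
  refine ⟨t, ?_⟩
  have hA : K441.Br.IsCSA k A := K441.Br.IsCSA.of_inst
  have hT := K441.TPow.isCSA_tpow hA r
  have := hT.3
  let E := AlgEquiv.ofBijective _ (K438.ExtPow.kronBC_bijective ρ hm hn r)
  rw [← finrank_range_baseChange k M, baseChange_mulRight, finrank_range_mulRight_algEquiv E]
  have h1 : E ((1 : M) ⊗ₜ[k] t) = K438.Antisym.asym M r m :=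
    (K438.ExtPow.kronBC_tmul ρ r 1 t).trans (by rw [one_smul, ht])
  rw [h1, K438.Antisym.finrank_range_mulRight_asym]

/-- The index of `A ^ {⊗ r}` divides `C(deg A, r)`. -/
theorem index_dvd_choose_degree (k : Type u) [Field k] (A : Type v) [Ring A] [Algebra k A]
    [Algebra.IsCentral k A] [IsSimpleRing A] [FiniteDimensional k A] (n : ℕ)
    (hn : finrank k A = n ^ 2) (r : ℕ)
    (D' : Type w) [DivisionRing D'] [Algebra k D'] [FiniteDimensional k D']
    (m' : ℕ) (iso' : tpow k A r ≃ₐ[k] Matrix (Fin m') (Fin m') D') (d' : ℕ)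
    (hd' : finrank k D' = d' ^ 2) : d' ∣ Nat.choose n r := by
  obtain ⟨t, ht⟩ := exists_element k A n hn r
  have hA : K441.Br.IsCSA k A := K441.Br.IsCSA.of_inst
  have hT := K441.TPow.isCSA_tpow hA r
  have := hT.3
  have := hT.nontrivial
  have h1 := K438.ModDim.dvd_finrank_range_mulRight k D' (tpow k A r) m' iso' t
  have h2 := K438.Index.finrank_matrix_eq k D' (tpow k A r) m' iso' d' hd'
  rw [K441.TPow.finrank_tpow hA, hn, ← pow_mul, mul_comm 2 r, pow_mul] at h2
  have h3 : n ^ r = m' * d' := Nat.pow_left_injective (n := 2) (by norm_num) h2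
  have hpos : 0 < m' * d' := by
    have h4 : m' ≠ 0 := K438.Index.ne_zero_of_algEquiv k D' (tpow k A r) m' iso'
    have h5 : 0 < d' := K438.Index.d_pos k D' d' hd'
    exact Nat.mul_pos (Nat.pos_of_ne_zero h4) h5
  rw [ht, h3, hd', sq, ← mul_assoc] at h1
  exact Nat.dvd_of_mul_dvd_mul_left hpos h1

/-- The index of `A ^ {⊗ r}` divides `C(ind A, r)`. -/
theorem index_dvd_choose (k : Type u) [Field k] (A : Type*) [Ring A] [Algebra k A]
    [Algebra.IsCentral k A] [IsSimpleRing A] [FiniteDimensional k A]
    (D : Type v) [DivisionRing D] [Algebra k D] [Algebra.IsCentral k D] [FiniteDimensional k D]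
    (m : ℕ) (iso : A ≃ₐ[k] Matrix (Fin m) (Fin m) D) (d : ℕ) (hd : finrank k D = d ^ 2) (r : ℕ)
    (D' : Type w) [DivisionRing D'] [Algebra k D'] [Algebra.IsCentral k D'] [FiniteDimensional k D']
    (m' : ℕ) (iso' : tpow k A r ≃ₐ[k] Matrix (Fin m') (Fin m') D') (d' : ℕ)
    (hd' : finrank k D' = d' ^ 2) : d' ∣ Nat.choose d r := by
  have hA : K441.Br.IsCSA k A := K441.Br.IsCSA.of_inst
  have hD : K441.Br.IsCSA k D := K441.Br.IsCSA.of_inst
  have hm := K438.Index.ne_zero_of_algEquiv k D A m iso
  have hTA := K441.TPow.isCSA_tpow hA r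
  have := hTA.nontrivial
  have hm' := K438.Index.ne_zero_of_algEquiv k D' (tpow k A r) m' iso'
  have h1 : K441.Br.BrEq k A D := K441.Br.BrEq.of_matrix hm iso
  have h2 : K441.Br.BrEq k (tpow k A r) (tpow k D r) := K441.TPow.brEq_tpow h1 r
  have h3 : K441.Br.BrEq k (tpow k D r) D' := h2.symm.trans (K441.Br.BrEq.of_matrix hm' iso')
  have hTD := K441.TPow.isCSA_tpow hD r
  obtain ⟨j, D'', i1, i2, hj, hD'', ⟨e⟩⟩ := hTD.exists_div
  have h4 : K441.Br.BrEq k D'' D' := (K441.Br.BrEq.of_matrix hj e).symm.trans h3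
  obtain ⟨g⟩ := h4.div_unique hD''
  exact index_dvd_choose_degree k D d hd r D' j (e.trans g.mapMatrix) d' hd'

/-- The index kills the Brauer class. -/
theorem splits_tpow_index (k : Type u) [Field k] (A : Type*) [Ring A] [Algebra k A]
    [Algebra.IsCentral k A] [IsSimpleRing A] [FiniteDimensional k A]
    (D : Type v) [DivisionRing D] [Algebra k D] [Algebra.IsCentral k D] [FiniteDimensional k D]
    (m : ℕ) (iso : A ≃ₐ[k] Matrix (Fin m) (Fin m) D) (d : ℕ) (hd : finrank k D = d ^ 2) :
    Curves.Splits k (tpow k A d) k := by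
  have hA : K441.Br.IsCSA k A := K441.Br.IsCSA.of_inst
  have hTA := K441.TPow.isCSA_tpow hA d
  have := hTA.1
  have := hTA.2
  have := hTA.3
  obtain ⟨m', D', _, _, hm', hf', hc', ⟨iso'⟩⟩ := K438.Index.exists_divisionRing k (tpow k A d)
  obtain ⟨d', hd'0, hd'⟩ := K438.Index.exists_degree k D'
  have h1 := index_dvd_choose k A D m iso d hd d D' m' iso' d' hd'
  rw [Nat.choose_self, Nat.dvd_one] at h1
  rw [K438.Index.splits_divisionRing_iff k k D' (tpow k A d) m' hm' iso']
  exact K438.Index.splits_of_finrank_one k k D' (by rw [hd', h1, one_pow])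

/-- The relative Brauer group of a finite extension of degree `n` is killed by `n`. -/
theorem splits_tpow_of_splits (k : Type u) [Field k] (A : Type v) [Ring A] [Algebra k A]
    [Algebra.IsCentral k A] [IsSimpleRing A] [FiniteDimensional k A]
    (K : Type w) [Field K] [Algebra k K] [FiniteDimensional k K] (h : Curves.Splits k A K) :
    Curves.Splits k (tpow k A (finrank k K)) k := by
  have hA : K441.Br.IsCSA k A := K441.Br.IsCSA.of_inst
  obtain ⟨m, D, _, _, hm, hf, hc, ⟨iso⟩⟩ := K438.Index.exists_divisionRing k A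
  obtain ⟨d, hd0, hd⟩ := K438.Index.exists_degree k D
  obtain ⟨j, hj⟩ := K438.Index.dvd_of_splits_matrix k D d hd A m hm iso K h
  rw [K441.TPow.splits_tpow_iff hA, hj]
  exact K441.TPow.brEq_tpow_mul_of_split
    ((K441.TPow.splits_tpow_iff hA d).1 (splits_tpow_index k A D m iso d hd)) j

end K438.ExtIdx
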