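import Groth.Agent.CurvesA.SepSplit2
import Groth.Agent.CurvesA.SplitEmbed
import Groth.Agent.CurvesA.MatrixDiv
import Groth.Agent.Brauer.K438.Basic
import Groth.Agent.S0192
import Groth.Agent.S0193

/-!
# Index of central simple algebras: all universes
-/

set_option autoImplicit false

open scoped TensorProduct
open Module

namespace K438.Index

universe u v w

variable (k : Type u) [Field k]

/-- Wedderburn's theorem with the centre. -/
theorem exists_divisionRing (A : Type v) [Ring A] [Algebra k A] [Algebra.IsCentral k A]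
    [IsSimpleRing A] [FiniteDimensional k A] :
    ∃ (n : ℕ) (D : Type v) (_ : DivisionRing D) (_ : Algebra k D), n ≠ 0 ∧
      FiniteDimensional k D ∧ Algebra.IsCentral k D ∧ Nonempty (A ≃ₐ[k] Matrix (Fin n) (Fin n) D) := by
  have : IsArtinianRing A := IsArtinianRing.of_finite k A
  obtain ⟨n, hn, D, hD1, hD2, hD3, ⟨e⟩⟩ :=
    IsSimpleRing.exists_algEquiv_matrix_divisionRing_finite k A
  have : Algebra.IsCentral k (Matrix (Fin n) (Fin n) D) := Algebra.IsCentral.of_algEquiv k _ _ e
  exact ⟨n, D, hD1, hD2, hn.out, hD3, Groth.Agent.CurvesA.SplitEmbed.isCentral_of_matrix k D n, ⟨e⟩⟩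

theorem exists_degree (A : Type v) [Ring A] [Algebra k A] [Algebra.IsCentral k A]
    [IsSimpleRing A] [FiniteDimensional k A] : ∃ n : ℕ, n ≠ 0 ∧ finrank k A = n ^ 2 := by
  obtain ⟨n, hn⟩ := Groth.Agent.S0192.result k A
  refine ⟨n, ?_, by rw [hn, sq]⟩
  rintro rfl
  have : 0 < finrank k A := Module.finrank_pos
  omega

/-- The data of an isomorphism with a matrix algebra over a central division algebra: sizes. -/
theorem finrank_matrix_eq (D : Type v) [DivisionRing D] [Algebra k D] [FiniteDimensional k D]
    (A : Type w) [Ring A] [Algebra k A] (m : ℕ) (e : A ≃ₐ[k] Matrix (Fin m) (Fin m) D) (d : ℕ)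
    (hd : finrank k D = d ^ 2) : finrank k A = (m * d) ^ 2 := by
  rw [e.toLinearEquiv.finrank_eq, Module.finrank_matrix]
  simp only [Fintype.card_fin, hd]
  ring

theorem ne_zero_of_algEquiv (D : Type v) [DivisionRing D] [Algebra k D]
    (A : Type w) [Ring A] [Algebra k A] [Nontrivial A] (m : ℕ)
    (e : A ≃ₐ[k] Matrix (Fin m) (Fin m) D) : m ≠ 0 := by
  rintro rfl
  have : Subsingleton (Matrix (Fin 0) (Fin 0) D) := inferInstance
  have : Subsingleton A := e.toEquiv.subsingleton
  exact not_subsingleton A this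

theorem d_pos (D : Type v) [DivisionRing D] [Algebra k D] [FiniteDimensional k D] (d : ℕ)
    (hd : finrank k D = d ^ 2) : 0 < d := by
  rcases Nat.eq_zero_or_pos d with h | h
  · have : 0 < finrank k D := Module.finrank_pos
    rw [h] at hd
    omega
  · exact h

/-- The index divides the degree of any finite splitting field; all universes. -/
theorem dvd_of_splits (D : Type v) [DivisionRing D] [Algebra k D] [Algebra.IsCentral k D]
    [FiniteDimensional k D] (d : ℕ) (hd : finrank k D = d ^ 2)
    (k' : Type w) [Field k'] [Algebra k k'] [FiniteDimensional k k'] (hs : Curves.Splits k D k') :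
    d ∣ finrank k k' := by
  obtain ⟨D', _, _, _, _, a, j, ha, hj, e, φ, hdim⟩ :=
    Groth.Agent.CurvesA.SplitEmbed.exists_embed k k' D hs
  have : NeZero (1 : ℕ) := ⟨one_ne_zero⟩
  let e1 : D ≃ₐ[k] Matrix (Fin 1) (Fin 1) D := AlgEquiv.ofBijective
    (Matrix.scalarAlgHom (Fin 1) k) ⟨by
      intro a b hab
      have := congrFun (congrFun hab 0) 0
      simpa [Matrix.scalar_apply] using this, by
      intro M
      refine ⟨M 0 0, ?_⟩
      ext i j
      simp [Matrix.scalar_apply, Subsingleton.elim i 0, Subsingleton.elim j 0]⟩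
  obtain ⟨f⟩ := Groth.Agent.CurvesA.MatrixDiv.nonempty_algEquiv D 1 k D' a (e1.symm.trans e)
  have h1 : finrank k D' = d ^ 2 := by rw [← f.toLinearEquiv.finrank_eq, hd]
  rw [Module.finrank_matrix, Fintype.card_fin, h1] at hdim
  have h2 : (j * d) ^ 2 = finrank k k' ^ 2 := by rw [← hdim]; ring
  have h3 : j * d = finrank k k' := Nat.pow_left_injective (n := 2) (by norm_num) h2
  exact ⟨j, by rw [← h3, mul_comm]⟩

theorem splits_divisionRing_iff (k' : Type*) [Field k'] [Algebra k k']
    (D : Type v) [DivisionRing D] [Algebra k D] [Algebra.IsCentral k D]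
    [FiniteDimensional k D] (A : Type w) [Ring A] [Algebra k A] (m : ℕ) (hm : m ≠ 0)
    (e : A ≃ₐ[k] Matrix (Fin m) (Fin m) D) : Curves.Splits k A k' ↔ Curves.Splits k D k' := by
  constructor
  · intro h
    exact Groth.Agent.CurvesA.Splitting.splits_of_splits_matrix k k' D m hm
      (K438.Basic.splits_congr e h)
  · intro h
    exact K438.Basic.splits_congr e.symm
      (Groth.Agent.CurvesA.Splitting.splits_matrix_of_splits k k' D m hm h)

/-- The index divides the degree of any finite splitting field. -/
theorem dvd_of_splits_matrix (D : Type v) [DivisionRing D] [Algebra k D] [Algebra.IsCentral k D]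
    [FiniteDimensional k D] (d : ℕ) (hd : finrank k D = d ^ 2)
    (A : Type*) [Ring A] [Algebra k A] (m : ℕ) (hm : m ≠ 0) (e : A ≃ₐ[k] Matrix (Fin m) (Fin m) D)
    (k' : Type w) [Field k'] [Algebra k k'] [FiniteDimensional k k'] (hs : Curves.Splits k A k') :
    d ∣ finrank k k' :=
  dvd_of_splits k D d hd k' ((splits_divisionRing_iff k k' D A m hm e).1 hs)

/-- The division algebra of a central simple algebra is determined by it. -/
theorem nonempty_algEquiv_divisionRing
    (D : Type v) [DivisionRing D] [Algebra k D] [Algebra.IsCentral k D] [FiniteDimensional k D]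
    (D' : Type w) [DivisionRing D'] [Algebra k D'] [Algebra.IsCentral k D'] [FiniteDimensional k D']
    (A : Type*) [Ring A] [Algebra k A] [Nontrivial A] (n m : ℕ)
    (e : A ≃ₐ[k] Matrix (Fin n) (Fin n) D) (e' : A ≃ₐ[k] Matrix (Fin m) (Fin m) D') :
    Nonempty (D ≃ₐ[k] D') :=
  Groth.Agent.S0193.result k D D' n m (ne_zero_of_algEquiv k D A n e)
    (ne_zero_of_algEquiv k D' A m e') (e.symm.trans e')

/-- Splitting over the base field means trivial division algebra. -/
theorem finrank_eq_one_of_splits_self (D : Type v) [DivisionRing D] [Algebra k D]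
    [Algebra.IsCentral k D] [FiniteDimensional k D] (h : Curves.Splits k D k) :
    finrank k D = 1 := by
  obtain ⟨n, hn, ⟨e⟩⟩ := h
  have : NeZero n := ⟨hn⟩
  let e1 : D ≃ₐ[k] Matrix (Fin n) (Fin n) k := (Algebra.TensorProduct.lid k D).symm.trans e
  have : NeZero (1 : ℕ) := ⟨one_ne_zero⟩
  let e2 : D ≃ₐ[k] Matrix (Fin 1) (Fin 1) D := AlgEquiv.ofBijective
    (Matrix.scalarAlgHom (Fin 1) k) ⟨by
      intro a b hab
      have := congrFun (congrFun hab 0) 0
      simpa [Matrix.scalar_apply] using this, by
      intro M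
      refine ⟨M 0 0, ?_⟩
      ext i j
      simp [Matrix.scalar_apply, Subsingleton.elim i 0, Subsingleton.elim j 0]⟩
  obtain ⟨f⟩ := Groth.Agent.CurvesA.MatrixDiv.nonempty_algEquiv D 1 k k n (e2.symm.trans e1)
  rw [f.toLinearEquiv.finrank_eq, Module.finrank_self]

/-- A one-dimensional algebra over a field is the field. -/
noncomputable def algEquivOfFinrankOne (D : Type v) [Ring D] [Algebra k D] [Nontrivial D]
    (h : finrank k D = 1) : k ≃ₐ[k] D :=
  AlgEquiv.ofBijective (Algebra.ofId k D) ⟨(Algebra.ofId k D).injective, by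
    have : FiniteDimensional k D := FiniteDimensional.of_finrank_pos (by omega)
    have h1 : finrank k k = finrank k D := by rw [h, Module.finrank_self]
    exact (LinearMap.injective_iff_surjective_of_finrank_eq_finrank
      (f := (Algebra.ofId k D).toLinearMap) h1).1 (Algebra.ofId k D).injective⟩

theorem splits_of_finrank_one (k' : Type*) [Field k'] [Algebra k k']
    (D : Type v) [Ring D] [Algebra k D] [Nontrivial D] (h : finrank k D = 1) :
    Curves.Splits k D k' := by
  refine ⟨1, one_ne_zero, ⟨?_⟩⟩
  exact (Algebra.TensorProduct.congr (AlgEquiv.refl : k' ≃ₐ[k'] k')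
    (algEquivOfFinrankOne k D h).symm).trans <|
    (Algebra.TensorProduct.rid k k' k').trans (Groth.Agent.CurvesA.Splitting.oneMatrix k')

end K438.Index
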