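import Groth.Agent.Brauer.K438.Antisym
import Groth.Agent.Brauer.K438.Index
import Groth.Agent.Brauer.K441.TPow
import Groth.Agent.GalCoh.K447.Descent
import Groth.Agent.CurvesA.SkolemNoether

/-!
# The antisymmetriser of a tensor power of a central simple algebra

For a central simple algebra `A` of degree `n` over a field `k` the tensor power `A ^ {⊗ r}` contains
an element which over a splitting field is the antisymmetriser on `V ^ {⊗ r}`.  Its left ideal has
dimension `n ^ r * C(n, r)`, so that the index of `A ^ {⊗ r}` divides `C(n, r)`.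
-/

set_option autoImplicit false

open scoped TensorProduct
open Module CSAGal

namespace K438.ExtPow

universe u v w

section Kron

variable {R : Type*} [CommRing R] {r n : ℕ}

/-- Kronecker product of a family of matrices. -/
def kap (X : Fin r → Matrix (Fin n) (Fin n) R) : Matrix (Fin r → Fin n) (Fin r → Fin n) R :=
  Matrix.of fun f g => ∏ i, X i (f i) (g i)

theorem kap_apply (X : Fin r → Matrix (Fin n) (Fin n) R) (f g : Fin r → Fin n) :
    kap X f g = ∏ i, X i (f i) (g i) := rfl

theorem kap_mul (X Y : Fin r → Matrix (Fin n) (Fin n) R) : kap (X * Y) = kap X * kap Y := by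
  ext f g
  rw [Matrix.mul_apply]
  simp only [kap_apply, Matrix.mul_apply, Pi.mul_apply]
  rw [Finset.prod_univ_sum, Fintype.piFinset_univ]
  exact Finset.sum_congr rfl fun e _ => Finset.prod_mul_distrib

theorem kap_one : kap (1 : Fin r → Matrix (Fin n) (Fin n) R) = 1 := by
  classical
  ext f g
  rw [kap_apply, Matrix.one_apply]
  simp only [Pi.one_apply, Matrix.one_apply]
  by_cases h : f = g
  · subst h; simp
  · rw [if_neg h]
    obtain ⟨i, hi⟩ := Function.ne_iff.1 h
    exact Finset.prod_eq_zero (Finset.mem_univ i) (if_neg hi)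

theorem asym_mul_kap (g : Matrix (Fin n) (Fin n) R) :
    K438.Antisym.asym R r n * kap (fun _ => g) = kap (fun _ => g) * K438.Antisym.asym R r n := by
  classical
  ext f h
  rw [Matrix.mul_apply, Matrix.mul_apply]
  simp only [K438.Antisym.asym_apply, kap_apply, Finset.sum_mul, Finset.mul_sum]
  rw [Finset.sum_comm]
  conv_rhs => rw [Finset.sum_comm]
  refine Finset.sum_congr rfl fun π _ => ?_
  rw [Finset.sum_eq_single (f ∘ ⇑π⁻¹), Finset.sum_eq_single (h ∘ ⇑π)]
  · rw [if_pos, if_pos rfl, mul_comm]
    · congr 1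
      rw [← Equiv.prod_comp π]
      refine Finset.prod_congr rfl fun i _ => ?_
      simp
    · funext i; simp
  · intro e _ he
    rw [if_neg (fun h' => he h'.symm), mul_zero]
  · intro h'; exact absurd (Finset.mem_univ _) h'
  · intro e _ he
    rw [if_neg, zero_mul]
    intro h'
    apply he
    rw [← h']
    funext i
    simp
  · intro h'; exact absurd (Finset.mem_univ _) h'

end Kron

section

variable {k : Type u} [Field k] {M : Type w} [Field M] [Algebra k M]
  {A : Type v} [Ring A] [Algebra k A] {n : ℕ}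

/-- The multilinear map underlying `kronAlg`. -/
noncomputable def kronML (ρ : A →ₐ[k] Matrix (Fin n) (Fin n) M) (r : ℕ) :
    MultilinearMap k (fun _ : Fin r => A) (Matrix (Fin r → Fin n) (Fin r → Fin n) M) where
  toFun a := kap fun i => ρ (a i)
  map_update_add' {inst} a i x y := by
    have : inst = instDecidableEqFin r := Subsingleton.elim _ _
    subst this
    ext f g
    rw [Matrix.add_apply]
    simp only [kap_apply]
    rw [← Finset.mul_prod_erase _ _ (Finset.mem_univ i), ← Finset.mul_prod_erase _ _ (Finset.mem_univ i),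
      ← Finset.mul_prod_erase _ _ (Finset.mem_univ i)]
    simp only [Function.update_self, map_add, Matrix.add_apply]
    have h1 : ∀ z : A, ∏ j ∈ Finset.univ.erase i, ρ (Function.update a i z j) (f j) (g j) =
        ∏ j ∈ Finset.univ.erase i, ρ (a j) (f j) (g j) := fun z =>
      Finset.prod_congr rfl fun j hj => by
        rw [Function.update_of_ne (Finset.ne_of_mem_erase hj)]
    rw [h1, h1, h1, add_mul]
  map_update_smul' {inst} a i c x := by
    have : inst = instDecidableEqFin r := Subsingleton.elim _ _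
    subst this
    ext f g
    rw [Matrix.smul_apply]
    simp only [kap_apply]
    rw [← Finset.mul_prod_erase _ _ (Finset.mem_univ i), ← Finset.mul_prod_erase _ _ (Finset.mem_univ i)]
    simp only [Function.update_self, map_smul, Matrix.smul_apply]
    have h1 : ∀ z : A, ∏ j ∈ Finset.univ.erase i, ρ (Function.update a i z j) (f j) (g j) =
        ∏ j ∈ Finset.univ.erase i, ρ (a j) (f j) (g j) := fun z =>
      Finset.prod_congr rfl fun j hj => by
        rw [Function.update_of_ne (Finset.ne_of_mem_erase hj)]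
    rw [h1, h1, smul_mul_assoc]

/-- `A ^ {⊗ r} → M_{n^r}(M)` from `A → M_n(M)`. -/
noncomputable def kronAlg (ρ : A →ₐ[k] Matrix (Fin n) (Fin n) M) (r : ℕ) :
    tpow k A r →ₐ[k] Matrix (Fin r → Fin n) (Fin r → Fin n) M :=
  PiTensorProduct.liftAlgHom (kronML ρ r)
    (by
      change kap (fun i => ρ ((1 : Fin r → A) i)) = 1
      simp only [Pi.one_apply, map_one]
      exact kap_one)
    (fun x y => by
      change kap (fun i => ρ ((x * y) i)) = kap (fun i => ρ (x i)) * kap (fun i => ρ (y i))
      rw [← kap_mul]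
      congr 1
      funext i
      simp)

theorem kronAlg_tprod (ρ : A →ₐ[k] Matrix (Fin n) (Fin n) M) (r : ℕ) (a : Fin r → A) :
    kronAlg ρ r (PiTensorProduct.tprod k a) = kap (fun i => ρ (a i)) := by
  change PiTensorProduct.lift (kronML ρ r) (PiTensorProduct.tprod k a) = _
  rw [PiTensorProduct.lift.tprod]
  rfl

/-- The base change of `kronAlg`. -/
noncomputable def kronBC (ρ : A →ₐ[k] Matrix (Fin n) (Fin n) M) (r : ℕ) :
    M ⊗[k] tpow k A r →ₐ[M] Matrix (Fin r → Fin n) (Fin r → Fin n) M :=
  Algebra.TensorProduct.lift (Algebra.ofId M _) (kronAlg ρ r)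
    (fun x _ => Algebra.commutes x _)

theorem kronBC_tmul (ρ : A →ₐ[k] Matrix (Fin n) (Fin n) M) (r : ℕ) (x : M) (w : tpow k A r) :
    kronBC ρ r (x ⊗ₜ[k] w) = x • kronAlg ρ r w := by
  simp [kronBC, Algebra.ofId_apply, Algebra.smul_def]

theorem kronBC_bijective [Algebra.IsCentral k A] [IsSimpleRing A] [FiniteDimensional k A]
    (ρ : A →ₐ[k] Matrix (Fin n) (Fin n) M) (hn0 : n ≠ 0) (hn : finrank k A = n ^ 2) (r : ℕ) :
    Function.Bijective (kronBC ρ r) := by
  have hA : K441.Br.IsCSA k A := K441.Br.IsCSA.of_inst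
  have hT := K441.TPow.isCSA_tpow hA r
  obtain ⟨h1, h2, h3⟩ := hT
  have hs : IsSimpleRing (M ⊗[k] tpow k A r) :=
    Groth.Agent.CurvesA.SepSplit.isSimpleRing_baseChange k M (tpow k A r)
  have : NeZero n := ⟨hn0⟩
  have : Nonempty (Fin r → Fin n) := ⟨fun _ => 0⟩
  have hinj : Function.Injective (kronBC ρ r) :=
    (kronBC ρ r : M ⊗[k] tpow k A r →+* Matrix (Fin r → Fin n) (Fin r → Fin n) M).injective
  have hfr : finrank M (M ⊗[k] tpow k A r) =
      finrank M (Matrix (Fin r → Fin n) (Fin r → Fin n) M) := by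
    rw [Module.finrank_baseChange, K441.TPow.finrank_tpow hA, hn, Module.finrank_matrix]
    simp [← pow_mul, ← pow_add, two_mul, mul_comm]
    ring
  exact ⟨hinj, (LinearMap.injective_iff_surjective_of_finrank_eq_finrank
    (f := (kronBC ρ r).toLinearMap) hfr).1 hinj⟩

/-- The Galois twist of a splitting is inner. -/
theorem exists_conj [Algebra.IsCentral k A] [IsSimpleRing A] [FiniteDimensional k A]
    (ρ : A →ₐ[k] Matrix (Fin n) (Fin n) M) (hn0 : n ≠ 0) (σ : M ≃ₐ[k] M) :
    ∃ g : (Matrix (Fin n) (Fin n) M)ˣ, ∀ a, ρ a =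
      (g : Matrix (Fin n) (Fin n) M) * (ρ a).map σ * (g⁻¹ : (Matrix (Fin n) (Fin n) M)ˣ) := by
  have : NeZero n := ⟨hn0⟩
  have hs : IsSimpleRing (M ⊗[k] A) :=
    Groth.Agent.CurvesA.SepSplit.isSimpleRing_baseChange k M A
  let ρ' : A →ₐ[k] Matrix (Fin n) (Fin n) M := ((σ : M →ₐ[k] M).mapMatrix).comp ρ
  let Φ (f : A →ₐ[k] Matrix (Fin n) (Fin n) M) : M ⊗[k] A →ₐ[M] Matrix (Fin n) (Fin n) M :=
    Algebra.TensorProduct.lift (Algebra.ofId M _) f (fun x _ => Algebra.commutes x _)
  obtain ⟨g, hg⟩ := Groth.Agent.CurvesA.SkolemNoether.skolemNoether M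
    (Matrix (Fin n) (Fin n) M) (M ⊗[k] A) (Φ ρ) (Φ ρ')
  refine ⟨g, fun a => ?_⟩
  have h1 := hg ((1 : M) ⊗ₜ[k] a)
  simp only [Φ, Algebra.TensorProduct.lift_tmul, map_one, one_mul] at h1
  exact h1

theorem exists_descend [FiniteDimensional k M] [IsGalois k M]
    [Algebra.IsCentral k A] [IsSimpleRing A] [FiniteDimensional k A]
    (ρ : A →ₐ[k] Matrix (Fin n) (Fin n) M) (hn0 : n ≠ 0) (hn : finrank k A = n ^ 2) (r : ℕ)
    (s : Matrix (Fin r → Fin n) (Fin r → Fin n) M) (hs : ∀ σ : M ≃ₐ[k] M, s.map σ = s)
    (hc : ∀ g : Matrix (Fin n) (Fin n) M, s * kap (fun _ => g) = kap (fun _ => g) * s) :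
    ∃ t : tpow k A r, kronAlg ρ r t = s := by
  have hb := kronBC_bijective ρ hn0 hn r
  obtain ⟨z, hz⟩ := hb.2 s
  have hfix : ∀ σ : M ≃ₐ[k] M, σ • z = z := by
    intro σ
    obtain ⟨g, hg⟩ := exists_conj ρ hn0 σ
    have key : ∀ z : M ⊗[k] tpow k A r, kronBC ρ r (σ • z) =
        kap (fun _ => (g : Matrix (Fin n) (Fin n) M)) * (kronBC ρ r z).map σ *
          kap (fun _ => ((g⁻¹ : (Matrix (Fin n) (Fin n) M)ˣ) : Matrix (Fin n) (Fin n) M)) := by
      intro z
      induction z using TensorProduct.induction_on with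
      | zero =>
        rw [smul_zero, map_zero]
        have : (0 : Matrix (Fin r → Fin n) (Fin r → Fin n) M).map σ = 0 := by ext; simp
        rw [this, mul_zero, zero_mul]
      | add x y hx hy =>
        rw [smul_add, map_add, hx, hy, map_add]
        have : (kronBC ρ r x + kronBC ρ r y).map σ =
            (kronBC ρ r x).map σ + (kronBC ρ r y).map σ := by ext; simp
        rw [this, mul_add, add_mul]
      | tmul x w =>
        rw [TensorProduct.smul_tmul', kronBC_tmul, kronBC_tmul]
        change σ x • _ = _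
        have h1 : (x • kronAlg ρ r w).map σ = σ x • (kronAlg ρ r w).map σ := by ext; simp
        rw [h1, mul_smul_comm, smul_mul_assoc]
        congr 1
        induction w using PiTensorProduct.induction_on with
        | smul_tprod c a =>
          rw [map_smul, kronAlg_tprod]
          have h2 : (c • kap fun i => ρ (a i)).map σ = c • (kap fun i => ρ (a i)).map σ := by
            ext; simp
          rw [h2, mul_smul_comm, smul_mul_assoc]
          congr 1
          have h3 : (kap fun i => ρ (a i)).map σ = kap fun i => (ρ (a i)).map σ := by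
            ext f h
            simp [kap_apply, map_prod]
          rw [h3, ← kap_mul, ← kap_mul]
          congr 1
          funext i
          exact hg (a i)
        | add x y hx hy =>
          have : (kronAlg ρ r x + kronAlg ρ r y).map σ =
              (kronAlg ρ r x).map σ + (kronAlg ρ r y).map σ := by ext; simp
          rw [map_add, this, mul_add, add_mul, ← hx (by ext; simp), ← hy (by ext; simp)]
    apply hb.1
    rw [key, hz, hs σ, ← hc, mul_assoc, ← kap_mul]
    have : ((fun _ => (g : Matrix (Fin n) (Fin n) M)) *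
        (fun _ => ((g⁻¹ : (Matrix (Fin n) (Fin n) M)ˣ) : Matrix (Fin n) (Fin n) M)) :
        Fin r → Matrix (Fin n) (Fin n) M) = 1 := by
      funext i
      simp
    rw [this, kap_one, mul_one]
  obtain ⟨w, hw⟩ := K447.Descent.exists_of_fixed z hfix
  refine ⟨w, ?_⟩
  have := kronBC_tmul ρ r 1 w
  rw [hw, hz, one_smul] at this
  exact this.symm

end

end K438.ExtPow
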